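/-
Pencils of ideals of finite colength in an extension of a local algebra.
-/
import Groth.Agent.H27HilbAff.Coord

set_option autoImplicit false

universe u

open TensorProduct Polynomial

namespace Groth.Agent.H27Punctual

open H27HilbAff

variable {k R : Type u} [Field k] [CommRing R] [Algebra k R] {K : Type u} [Field K] [Algebra k K]

/-- The colength of an ideal. -/
noncomputable def colen (J : Ideal (K ⊗[k] R)) : ℕ := Module.finrank K ((K ⊗[k] R) ⧸ J)

theorem colen_of_isCoord {d : ℕ} {J : Ideal (K ⊗[k] R)} {φ : R →ₗ[k] (Fin d → K)}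
    (h : IsCoord J φ) : colen J = d := by
  let g : ((K ⊗[k] R) ⧸ J) →ₗ[K] (Fin d → K) :=
    (Submodule.liftQ (J.restrictScalars K) (tilde φ) fun z hz => (h.mem_iff z).mp hz) ∘ₗ
      (Submodule.Quotient.restrictScalarsEquiv K J).symm.toLinearMap
  have hg : ∀ z, g (Ideal.Quotient.mk J z) = tilde φ z := fun z => rfl
  have hbij : Function.Bijective g := by
    refine ⟨(injective_iff_map_eq_zero g).mpr fun q hq => ?_, fun c => ?_⟩
    · obtain ⟨z, rfl⟩ := Ideal.Quotient.mk_surjective q
      rw [hg] at hq
      exact Ideal.Quotient.eq_zero_iff_mem.mpr ((h.mem_iff z).mpr hq)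
    · obtain ⟨z, hz⟩ := h.surj c
      exact ⟨_, (hg z).trans hz⟩
  rw [colen, (LinearEquiv.ofBijective g hbij).finrank_eq, Module.finrank_fin_fun]

theorem one_tmul_algebraMap (c : k) :
    (1 : K) ⊗ₜ[k] algebraMap k R c = algebraMap k (K ⊗[k] R) c := by
  rw [Algebra.algebraMap_eq_smul_one, TensorProduct.tmul_smul, Algebra.algebraMap_eq_smul_one]
  rfl

variable [IsLocalRing R]

/-- A pencil of ideals: the family of the lines through `u + t (v - u)` modulo `N`. -/
theorem exists_pencil (hres : ∀ r : R, ∃ c : k, r - algebraMap k R c ∈ IsLocalRing.maximalIdeal R)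
    [Module.Finite k R] {p : ℕ} (N : Ideal (K ⊗[k] R)) (hN : colen N = p + 2) (u v : K ⊗[k] R)
    (hu : ∀ m ∈ IsLocalRing.maximalIdeal R, ((1 : K) ⊗ₜ[k] m) * u ∈ N)
    (hv : ∀ m ∈ IsLocalRing.maximalIdeal R, ((1 : K) ⊗ₜ[k] m) * v ∈ N)
    (hind : ∀ a b : K, a • u + b • v ∈ N → a = 0 ∧ b = 0) :
    ∃ (𝒦 : Ideal (K[X] ⊗[k] R)) (φ : R →ₗ[k] (Fin (p + 1) → K[X])), IsCoord 𝒦 φ ∧
      ∀ ev : K[X] →ₐ[K] K, 𝒦.map (bc (ev.restrictScalars k)) =
        N ⊔ Ideal.span {u + ev X • (v - u)} := by
  classical
  let q : (K ⊗[k] R) →ₗ[K] (K ⊗[k] R) ⧸ N := (Ideal.Quotient.mkₐ K N).toLinearMap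
  have hq : ∀ z, q z = 0 ↔ z ∈ N := fun z => Ideal.Quotient.eq_zero_iff_mem
  let f : (K × K) →ₗ[K] (K ⊗[k] R) ⧸ N :=
    (LinearMap.toSpanSingleton K _ (q u)).coprod (LinearMap.toSpanSingleton K _ (q (v - u)))
  have hfinj : Function.Injective f := by
    refine (injective_iff_map_eq_zero f).mpr fun ⟨a, b⟩ h => ?_
    have h' : q (a • u + b • (v - u)) = 0 := by
      simpa [f, LinearMap.toSpanSingleton_apply] using h
    rw [hq, show a • u + b • (v - u) = (a - b) • u + b • v by rw [sub_smul, smul_sub]; abel] at h'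
    obtain ⟨h1, h2⟩ := hind _ _ h'
    exact Prod.ext ((sub_eq_zero.mp h1).trans h2) h2
  obtain ⟨W, hW⟩ := Submodule.exists_isCompl (LinearMap.range f)
  have hWr : Module.finrank K W = p := by
    have h1 := Submodule.finrank_add_eq_of_isCompl hW
    rw [LinearMap.finrank_range_of_inj hfinj] at h1
    simp only [Module.finrank_prod, Module.finrank_self] at h1
    change _ = colen N at h1
    omega
  let eW : W ≃ₗ[K] (Fin p → K) := (Module.finBasisOfFinrankEq K W hWr).equivFun
  let e : ((K ⊗[k] R) ⧸ N) ≃ₗ[K] (K × K) × (Fin p → K) :=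
    (Submodule.prodEquivOfIsCompl _ _ hW).symm ≪≫ₗ
      (LinearEquiv.ofInjective f hfinj).symm.prodCongr eW
  have hef : ∀ a b : K, e (f (a, b)) = ((a, b), 0) := by
    intro a b
    have : (Submodule.prodEquivOfIsCompl _ _ hW).symm (f (a, b)) =
        (⟨f (a, b), LinearMap.mem_range_self f _⟩, 0) :=
      Submodule.prodEquivOfIsCompl_symm_apply_left _ _ hW ⟨f (a, b), LinearMap.mem_range_self f _⟩
    simp only [e, LinearEquiv.trans_apply, this, LinearEquiv.prodCongr_apply, map_zero, Prod.mk.injEq,
      and_true]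
    exact (LinearEquiv.ofInjective f hfinj).symm_apply_apply (a, b)
  let y : R → (K × K) × (Fin p → K) := fun r => e (q ((1 : K) ⊗ₜ r))
  have hy_add : ∀ r r', y (r + r') = y r + y r' := fun r r' => by
    simp only [y, TensorProduct.tmul_add, map_add]
  have hy_smul : ∀ (c : k) r, y (c • r) = algebraMap k K c • y r := fun c r => by
    simp only [y]
    rw [show (1 : K) ⊗ₜ[k] (c • r) = algebraMap k K c • ((1 : K) ⊗ₜ[k] r) by
      rw [algebraMap_smul, TensorProduct.tmul_smul], map_smul, map_smul]
  -- the coordinates over the polynomial ring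
  let ψ : R →ₗ[k] (K[X] × K[X]) × (Fin p → K[X]) :=
    { toFun := fun r => ((C (y r).1.1, C (y r).1.2), fun i => C ((y r).2 i))
      map_add' := fun r r' => by
        simp only [hy_add, Prod.fst_add, Prod.snd_add, Pi.add_apply, map_add]; rfl
      map_smul' := fun c r => by
        simp only [hy_smul]
        refine Prod.ext (Prod.ext ?_ ?_) (funext fun j => ?_) <;>
          simp [Algebra.smul_def, IsScalarTower.algebraMap_apply k K K[X]] }
  let Ψ : (K[X] ⊗[k] R) →ₗ[K[X]] (K[X] × K[X]) × (Fin p → K[X]) := ψ.liftBaseChange K[X]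
  let φ : R →ₗ[k] (Fin (p + 1) → K[X]) :=
    { toFun := fun r => Fin.cons ((ψ r).1.2 - X * (ψ r).1.1) (ψ r).2
      map_add' := fun r r' => by
        funext i
        refine Fin.cases ?_ (fun i => ?_) i
        · simp [mul_add]; ring
        · simp
      map_smul' := fun c r => by
        funext i
        refine Fin.cases ?_ (fun i => ?_) i
        · simp [mul_smul_comm, smul_sub]
        · simp }
  have hφ : ∀ z, tilde φ z = Fin.cons ((Ψ z).1.2 - X * (Ψ z).1.1) (Ψ z).2 := by
    intro z
    induction z using TensorProduct.induction_on with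
    | zero => funext i; refine Fin.cases ?_ (fun i => ?_) i <;> simp
    | tmul a r =>
      funext i
      refine Fin.cases ?_ (fun i => ?_) i
      · simp [φ, Ψ]; ring
      · simp [φ, Ψ]
    | add z z' hz hz' =>
      funext i
      refine Fin.cases ?_ (fun i => ?_) i
      · simp [hz, hz']; ring
      · simp [hz, hz']
  -- multiplication by the maximal ideal
  have hmul : ∀ m ∈ IsLocalRing.maximalIdeal R, ∃ t : Fin p → (K[X] × K[X]) × (Fin p → K[X]),
      ∀ z, Ψ (((1 : K[X]) ⊗ₜ[k] m) * z) = ∑ i, (Ψ z).2 i • t i := by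
    intro m hm
    let T : (K × K) × (Fin p → K) →ₗ[K] (K × K) × (Fin p → K) :=
      e.toLinearMap ∘ₗ (LinearMap.mulLeft K (Ideal.Quotient.mk N ((1 : K) ⊗ₜ[k] m))) ∘ₗ e.symm.toLinearMap
    have hT0 : ∀ a b : K, T ((a, b), 0) = 0 := by
      intro a b
      simp only [T, LinearMap.comp_apply, LinearEquiv.coe_coe, ← hef a b, e.symm_apply_apply,
        LinearMap.mulLeft_apply]
      rw [LinearEquiv.map_eq_zero_iff]
      have : f (a, b) = Ideal.Quotient.mk N (a • u + b • (v - u)) := by
        simp [f, LinearMap.toSpanSingleton_apply, q]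
        rw [← map_sub]
        rfl
      rw [this, ← map_mul, Ideal.Quotient.eq_zero_iff_mem, mul_add, mul_smul_comm, mul_smul_comm,
        mul_sub]
      exact add_mem (N.smul_of_tower_mem a (hu m hm))
        (N.smul_of_tower_mem b (sub_mem (hv m hm) (hu m hm)))
    have hT : ∀ x, T x = ∑ i, x.2 i • T (0, Pi.single i 1) := by
      intro x
      have hx : x = (x.1, 0) + ∑ i, x.2 i • ((0, Pi.single i 1) : (K × K) × (Fin p → K)) := by
        refine Prod.ext ?_ ?_
        · simp [Prod.fst_sum]
        · simp only [Prod.snd_add, Prod.snd_sum, Prod.smul_snd, zero_add]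
          exact pi_eq_sum_univ' x.2
      conv_lhs => rw [hx]
      rw [map_add, map_sum, hT0 x.1.1 x.1.2, zero_add]
      simp only [map_smul]
    let t : Fin p → (K[X] × K[X]) × (Fin p → K[X]) := fun i =>
      ((C (T (0, Pi.single i 1)).1.1, C (T (0, Pi.single i 1)).1.2),
        fun j => C ((T (0, Pi.single i 1)).2 j))
    refine ⟨t, fun z => ?_⟩
    induction z using TensorProduct.induction_on with
    | zero => simp
    | tmul a r =>
      have hyr : y (m * r) = T (y r) := by
        simp only [y, T, LinearMap.comp_apply, LinearEquiv.coe_coe, e.symm_apply_apply,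
          LinearMap.mulLeft_apply]
        refine congrArg e ?_
        show Ideal.Quotient.mk N _ = Ideal.Quotient.mk N _ * Ideal.Quotient.mk N _
        rw [← map_mul, Algebra.TensorProduct.tmul_mul_tmul, one_mul]
      rw [Algebra.TensorProduct.tmul_mul_tmul, one_mul]
      have h1 : ψ (m * r) = ∑ i, (ψ r).2 i • t i := by
        simp only [ψ, LinearMap.coe_mk, AddHom.coe_mk, hyr, hT (y r), t]
        refine Prod.ext (Prod.ext ?_ ?_) (funext fun j => ?_) <;>
          simp [Prod.fst_sum, Prod.snd_sum, Finset.sum_apply, map_sum]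
      simp only [Ψ, LinearMap.liftBaseChange_tmul, h1, Prod.smul_snd, Pi.smul_apply, smul_eq_mul,
        Finset.smul_sum, smul_smul]
    | add z z' hz hz' =>
      simp only [mul_add, map_add, hz, hz', Prod.snd_add, Pi.add_apply, add_smul,
        Finset.sum_add_distrib]
  let 𝒦 : Ideal (K[X] ⊗[k] R) :=
    { carrier := {z | tilde φ z = 0}
      add_mem' := fun {a b} ha hb => by
        simp only [Set.mem_setOf_eq] at ha hb ⊢
        rw [map_add, ha, hb, add_zero]
      zero_mem' := map_zero _
      smul_mem' := fun c z hz => by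
        simp only [Set.mem_setOf_eq, smul_eq_mul] at hz ⊢
        induction c using TensorProduct.induction_on with
        | zero => simp
        | tmul a r =>
          obtain ⟨c, hc⟩ := hres r
          obtain ⟨t, ht⟩ := hmul _ hc
          have hz2 : (Ψ z).2 = 0 := funext fun i => by
            have := congrFun ((hφ z).symm.trans hz) i.succ
            simpa using this
          have h0 : tilde φ (((1 : K[X]) ⊗ₜ[k] (r - algebraMap k R c)) * z) = 0 := by
            rw [hφ, ht, hz2]
            funext i
            refine Fin.cases ?_ (fun i => ?_) i <;> simp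
          rw [show (a ⊗ₜ[k] r : K[X] ⊗[k] R) =
              a • ((1 : K[X]) ⊗ₜ[k] (r - algebraMap k R c)) + (c • a) • (1 : K[X] ⊗[k] R) by
            rw [Algebra.TensorProduct.one_def, TensorProduct.smul_tmul', TensorProduct.smul_tmul',
              smul_eq_mul, mul_one, smul_eq_mul, mul_one, TensorProduct.smul_tmul,
              ← Algebra.algebraMap_eq_smul_one, ← TensorProduct.tmul_add, sub_add_cancel],
            add_mul, smul_mul_assoc, smul_mul_assoc, one_mul, map_add, map_smul, map_smul, h0, hz,
            smul_zero, smul_zero, add_zero]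
        | add a b ha hb => rw [add_mul, map_add, ha, hb, add_zero] }
  have hcoord : IsCoord 𝒦 φ := by
    refine ⟨fun z => Iff.rfl, fun c => ?_⟩
    have key : ∀ x : (K × K) × (Fin p → K), ∃ z,
        Ψ z = ((C x.1.1, C x.1.2), fun i => C (x.2 i)) := by
      intro x
      obtain ⟨z, hz⟩ := Ideal.Quotient.mk_surjective (e.symm x)
      refine ⟨bc ((Polynomial.CAlgHom (R := K)).restrictScalars k) z, ?_⟩
      have h1 : ∀ w : K ⊗[k] R, Ψ (bc ((Polynomial.CAlgHom (R := K)).restrictScalars k) w) =
          ((C (e (q w)).1.1, C (e (q w)).1.2), fun i => C ((e (q w)).2 i)) := by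
        intro w
        induction w using TensorProduct.induction_on with
        | zero => simp; rfl
        | tmul a r =>
          have ha : e (q (a ⊗ₜ[k] r)) = a • y r := by
            simp only [y, ← map_smul]
            rw [TensorProduct.smul_tmul', smul_eq_mul, mul_one]
          simp only [Ψ, bc_tmul, LinearMap.liftBaseChange_tmul, ha, ψ, LinearMap.coe_mk, AddHom.coe_mk]
          refine Prod.ext (Prod.ext ?_ ?_) (funext fun j => ?_) <;> simp
        | add w w' hw hw' =>
          simp only [map_add, hw, hw', Prod.fst_add, Prod.snd_add, Pi.add_apply]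
          refine Prod.ext (Prod.ext ?_ ?_) (funext fun j => ?_) <;> simp
      rw [h1, show q z = e.symm x from hz, e.apply_symm_apply]
    choose g hg using key
    refine ⟨c 0 • g ((0, 1), 0) + ∑ i : Fin p, c i.succ • g ((0, 0), Pi.single i 1), ?_⟩
    rw [map_add, map_sum]
    funext j
    refine Fin.cases ?_ (fun j => ?_) j
    · simp [hφ, hg]
    · simp [hφ, hg, Finset.sum_apply, Pi.single_apply]
  refine ⟨𝒦, φ, hcoord, fun ev => ?_⟩
  have hev := hcoord.map (ev.restrictScalars k)
  let s := ev X
  have h2 : ∀ w : K ⊗[k] R, tilde (pushCoord (ev.restrictScalars k) φ) w =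
      Fin.cons ((e (q w)).1.2 - s * (e (q w)).1.1) (e (q w)).2 := by
    intro w
    induction w using TensorProduct.induction_on with
    | zero => funext i; refine Fin.cases ?_ (fun i => ?_) i <;> simp
    | tmul a r =>
      have ha : e (q (a ⊗ₜ[k] r)) = a • y r := by
        simp only [y, ← map_smul]
        rw [TensorProduct.smul_tmul', smul_eq_mul, mul_one]
      funext i
      have hC : ∀ c : K, ev (C c) = c := fun c => ev.commutes c
      refine Fin.cases ?_ (fun i => ?_) i
      · simp [φ, ψ, ha, hC, s]; ring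
      · simp [φ, ψ, ha, hC]
    | add w w' hw hw' =>
      funext i
      refine Fin.cases ?_ (fun i => ?_) i
      · simp [hw, hw']; ring
      · simp [hw, hw']
  have hx : e (q (u + s • (v - u))) = ((1, s), 0) := by
    rw [← hef 1 s]
    simp [f, LinearMap.toSpanSingleton_apply]
  refine le_antisymm (fun z hz => ?_) ?_
  · have hz' := (h2 z).symm.trans ((hev.mem_iff z).mp hz)
    set a := (e (q z)).1.1
    have h3 : z - a • (u + s • (v - u)) ∈ N := by
      rw [← hq, map_sub, map_smul, ← LinearEquiv.map_eq_zero_iff e, map_sub, map_smul, hx]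
      refine Prod.ext (Prod.ext ?_ ?_) (funext fun j => ?_)
      · simp [a]
      · have := congrFun hz' 0
        simp at this
        simp [sub_eq_zero.mp this, a, mul_comm]
      · have := congrFun hz' j.succ
        simpa using this
    rw [← sub_add_cancel z (a • (u + s • (v - u)))]
    exact Submodule.add_mem_sup h3
      ((Ideal.span {u + s • (v - u)}).smul_of_tower_mem a (Ideal.mem_span_singleton_self _))
  · refine sup_le (fun z hz => ?_) ((Ideal.span_singleton_le_iff_mem _).mpr ?_)
    · rw [hev.mem_iff, h2, (hq z).mpr hz, map_zero]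
      funext i; refine Fin.cases ?_ (fun i => ?_) i <;> simp
    · rw [hev.mem_iff, h2, hx]
      funext i; refine Fin.cases ?_ (fun i => ?_) i <;> simp

end Groth.Agent.H27Punctual
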