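/-
Invariants of ideals of finite colength of a local algebra that are constant on pencils are constant.
-/
import Groth.Agent.H27Punctual.Pencil

set_option autoImplicit false

universe u v

open TensorProduct

namespace Groth.Agent.H27Punctual

variable {k : Type u} [Field k] {α : Type v}

/-- The extension to `K ⊗ R` of an ideal of `R`. -/
noncomputable abbrev extIdeal (k : Type u) [Field k] (K : Type u) [Field K] [Algebra k K] {R : Type u} [CommRing R]
    [Algebra k R] (I : Ideal R) : Ideal (K ⊗[k] R) :=
  I.map (Algebra.TensorProduct.includeRight : R →ₐ[k] K ⊗[k] R)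

/-- An invariant of ideals of colength `n` constant on pencils and stable under extension of scalars. -/
structure IsInv (R : Type u) [CommRing R] [IsLocalRing R] [Algebra k R] (n : ℕ)
    (c : ∀ (K : Type u) [Field K] [Algebra k K], Ideal (K ⊗[k] R) → α) : Prop where
  pencil : ∀ (K : Type u) [Field K] [Algebra k K] (p : ℕ) (N : Ideal (K ⊗[k] R)) (u v : K ⊗[k] R),
    n = p + 1 → colen N = p + 2 →
    (∀ m ∈ IsLocalRing.maximalIdeal R, ((1 : K) ⊗ₜ[k] m) * u ∈ N) →
    (∀ m ∈ IsLocalRing.maximalIdeal R, ((1 : K) ⊗ₜ[k] m) * v ∈ N) →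
    (∀ a b : K, a • u + b • v ∈ N → a = 0 ∧ b = 0) →
    c K (N ⊔ Ideal.span {u}) = c K (N ⊔ Ideal.span {v})
  bc : ∀ (K : Type u) [Field K] [Algebra k K] (I : Ideal R), colen (extIdeal k K I) = n →
    c K (extIdeal k K I) = c k (extIdeal k k I)

section step

variable {R : Type u} [CommRing R] [IsLocalRing R] [Algebra k R] [Module.Finite k R]
  {K : Type u} [Field K] [Algebra k K]

theorem colen_add (J : Ideal (K ⊗[k] R)) :
    colen J + Module.finrank K (J.restrictScalars K) = Module.finrank k R := by
  rw [← Module.finrank_baseChange (R := K) (M' := R) (S := k),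
    ← Submodule.finrank_quotient_add_finrank (J.restrictScalars K),
    (Submodule.Quotient.restrictScalarsEquiv K J).finrank_eq]
  rfl

theorem eq_bot_of_le (J : Ideal (K ⊗[k] R)) (h : Module.finrank k R ≤ colen J) : J = ⊥ := by
  have h1 := colen_add J
  have h2 : J.restrictScalars K = ⊥ := Submodule.finrank_eq_zero.mp (by omega)
  exact (Submodule.restrictScalars_eq_bot_iff _ _ _).mp h2

theorem eq_top_of_colen_eq_zero (J : Ideal (K ⊗[k] R)) (h : colen J = 0) : J = ⊤ := by
  haveI : Subsingleton ((K ⊗[k] R) ⧸ J) := Module.finrank_zero_iff.mp h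
  exact Ideal.Quotient.subsingleton_iff.mp this

/-- A hyperplane of an ideal containing the product with the maximal ideal. -/
theorem exists_hyperplane {J : Ideal (K ⊗[k] R)} (hJ : J ≠ ⊥)
    (hres : ∀ r : R, ∃ c : k, r - algebraMap k R c ∈ IsLocalRing.maximalIdeal R) :
    ∃ (N : Ideal (K ⊗[k] R)) (u : K ⊗[k] R), N ≤ J ∧ u ∈ J ∧ u ∉ N ∧ colen N = colen J + 1 ∧
      ∀ m ∈ IsLocalRing.maximalIdeal R, ∀ w ∈ J, ((1 : K) ⊗ₜ[k] m) * w ∈ N := by
  classical
  haveI : IsArtinianRing R := IsArtinianRing.of_finite k R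
  let M := extIdeal k K (IsLocalRing.maximalIdeal R)
  have hne : ¬ (J ≤ M * J) := fun h => hJ (le_bot_iff.mp (by
    obtain ⟨e, he⟩ := ((IsLocalRing.jacobson_eq_maximalIdeal (⊥ : Ideal R) bot_ne_top).symm ▸
      IsArtinianRing.isNilpotent_jacobson_bot : IsNilpotent (IsLocalRing.maximalIdeal R))
    have hle : ∀ i, J ≤ M ^ i * J := by
      intro i
      induction i with
      | zero => simp
      | succ i ih => exact ih.trans (by rw [pow_succ, mul_assoc]; exact Ideal.mul_mono_right h)
    refine (hle e).trans ?_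
    rw [← Ideal.map_pow, show IsLocalRing.maximalIdeal R ^ e = ⊥ from he, Ideal.map_bot,
      Submodule.bot_mul]))
  obtain ⟨w, hwJ, hwM⟩ := SetLike.not_le_iff_exists.mp hne
  obtain ⟨l, hlw, hl⟩ : ∃ l : (K ⊗[k] R) →ₗ[K] K, l w ≠ 0 ∧
      ∀ x ∈ (M * J).restrictScalars K, l x = 0 := by
    obtain ⟨l, h1, h2⟩ := Submodule.exists_dual_map_eq_bot_of_notMem
      (p := (M * J).restrictScalars K) hwM inferInstance
    exact ⟨l, h1, fun x hx => (Submodule.mem_bot K).mp (h2 ▸ Submodule.mem_map_of_mem hx)⟩
  have hm : ∀ m ∈ IsLocalRing.maximalIdeal R, ∀ y ∈ J, l (((1 : K) ⊗ₜ[k] m) * y) = 0 :=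
    fun m hm y hy => hl _ (Ideal.mul_mem_mul (I := M) (Ideal.mem_map_of_mem _ hm) hy)
  let N : Ideal (K ⊗[k] R) :=
    { carrier := {y | y ∈ J ∧ l y = 0}
      add_mem' := fun {a b} ha hb => ⟨add_mem ha.1 hb.1, by rw [map_add, ha.2, hb.2, add_zero]⟩
      zero_mem' := ⟨zero_mem _, map_zero _⟩
      smul_mem' := fun c y hy => by
        refine ⟨J.mul_mem_left _ hy.1, ?_⟩
        rw [smul_eq_mul]
        induction c using TensorProduct.induction_on with
        | zero => simp
        | tmul a r =>
          obtain ⟨c, hc⟩ := hres r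
          rw [show (a ⊗ₜ[k] r : K ⊗[k] R) =
              a • ((1 : K) ⊗ₜ[k] (r - algebraMap k R c)) + (c • a) • (1 : K ⊗[k] R) by
            rw [Algebra.TensorProduct.one_def, TensorProduct.smul_tmul', TensorProduct.smul_tmul',
              smul_eq_mul, mul_one, smul_eq_mul, mul_one, TensorProduct.smul_tmul,
              ← Algebra.algebraMap_eq_smul_one, ← TensorProduct.tmul_add, sub_add_cancel],
            add_mul, smul_mul_assoc, smul_mul_assoc, one_mul, map_add, map_smul, map_smul,
            hm _ hc y hy.1, hy.2, smul_zero, smul_zero, add_zero]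
        | add a b ha hb => rw [add_mul, map_add, ha, hb, add_zero] }
  refine ⟨N, w, fun y hy => hy.1, hwJ, fun h => hlw h.2, ?_,
    fun m hmm y hy => ⟨J.mul_mem_left _ hy, hm m hmm y hy⟩⟩
  let g : J.restrictScalars K →ₗ[K] K := l ∘ₗ (J.restrictScalars K).subtype
  have hg : Function.Surjective g := fun c => ⟨(c * (l w)⁻¹) • ⟨w, hwJ⟩, by
    show l ((c * (l w)⁻¹) • w) = c
    rw [map_smul, smul_eq_mul, mul_assoc, inv_mul_cancel₀ hlw, mul_one]⟩
  have h1 := g.finrank_range_add_finrank_ker
  rw [LinearMap.range_eq_top.mpr hg, finrank_top, Module.finrank_self] at h1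
  have h2 : Module.finrank K (N.restrictScalars K) = Module.finrank K (LinearMap.ker g) := by
    refine LinearEquiv.finrank_eq ?_
    exact
      { toFun := fun y => ⟨⟨y.1, y.2.1⟩, y.2.2⟩
        invFun := fun y => ⟨y.1.1, y.1.2, y.2⟩
        map_add' := fun _ _ => rfl
        map_smul' := fun _ _ => rfl
        left_inv := fun _ => rfl
        right_inv := fun _ => rfl }
  have h3 := colen_add J
  have h4 := colen_add N
  omega

/-- Adjoining a line outside lowers the colength by one. -/
theorem colen_sup (hres : ∀ r : R, ∃ c : k, r - algebraMap k R c ∈ IsLocalRing.maximalIdeal R)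
    (N : Ideal (K ⊗[k] R)) (v : K ⊗[k] R) (hv : v ∉ N)
    (hm : ∀ m ∈ IsLocalRing.maximalIdeal R, ((1 : K) ⊗ₜ[k] m) * v ∈ N) :
    colen (N ⊔ Ideal.span {v}) + 1 = colen N := by
  have h : (N ⊔ Ideal.span {v}).restrictScalars K = N.restrictScalars K ⊔ Submodule.span K {v} := by
    refine le_antisymm ?_ ?_
    · let P : Ideal (K ⊗[k] R) :=
        { carrier := (N.restrictScalars K ⊔ Submodule.span K {v} : Submodule K (K ⊗[k] R))
          add_mem' := fun ha hb => add_mem ha hb
          zero_mem' := zero_mem _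
          smul_mem' := fun c y hy => by
            obtain ⟨n, hn, _, ht, rfl⟩ := Submodule.mem_sup.mp hy
            obtain ⟨t, rfl⟩ := Submodule.mem_span_singleton.mp ht
            rw [smul_eq_mul, mul_add]
            refine add_mem (Submodule.mem_sup_left (N.mul_mem_left c hn)) ?_
            rw [mul_smul_comm]
            refine Submodule.smul_mem _ _ ?_
            induction c using TensorProduct.induction_on with
            | zero => simp
            | tmul a r =>
              obtain ⟨c, hc⟩ := hres r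
              rw [show (a ⊗ₜ[k] r : K ⊗[k] R) =
                  a • ((1 : K) ⊗ₜ[k] (r - algebraMap k R c)) + (c • a) • (1 : K ⊗[k] R) by
                rw [Algebra.TensorProduct.one_def, TensorProduct.smul_tmul', TensorProduct.smul_tmul',
                  smul_eq_mul, mul_one, smul_eq_mul, mul_one, TensorProduct.smul_tmul,
                  ← Algebra.algebraMap_eq_smul_one, ← TensorProduct.tmul_add, sub_add_cancel],
                add_mul, smul_mul_assoc, smul_mul_assoc, one_mul]
              exact add_mem (Submodule.mem_sup_left (Submodule.smul_mem (N.restrictScalars K) a (hm _ hc)))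
                (Submodule.mem_sup_right (Submodule.smul_mem _ _ (Submodule.mem_span_singleton_self v)))
            | add a b ha hb => rw [add_mul]; exact add_mem ha hb }
      have hP : N ⊔ Ideal.span {v} ≤ P := sup_le (fun n hn => Submodule.mem_sup_left hn)
        ((Ideal.span_singleton_le_iff_mem _).mpr
          (Submodule.mem_sup_right (Submodule.mem_span_singleton_self v)))
      exact fun y hy => hP hy
    · exact sup_le (fun n hn => Submodule.mem_sup_left hn)
        ((Submodule.span_singleton_le_iff_mem _ _).mpr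
          (Submodule.mem_sup_right (Ideal.mem_span_singleton_self v)))
  have h1 := colen_add N
  have h2 := colen_add (N ⊔ Ideal.span {v})
  have h3 : Module.finrank K ((N ⊔ Ideal.span {v}).restrictScalars K) =
      Module.finrank K (N.restrictScalars K) + 1 := by
    rw [h]
    have hd : N.restrictScalars K ⊓ Submodule.span K {v} = ⊥ := by
      refine (Submodule.eq_bot_iff _).mpr fun y hy => ?_
      obtain ⟨t, rfl⟩ := Submodule.mem_span_singleton.mp hy.2
      rcases eq_or_ne t 0 with rfl | ht
      · simp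
      · refine absurd ?_ hv
        have h5 := Submodule.smul_mem (N.restrictScalars K) t⁻¹ hy.1
        rwa [inv_smul_smul₀ ht] at h5
    have := Submodule.finrank_sup_add_finrank_inf_eq (N.restrictScalars K) (Submodule.span K {v})
    rw [hd, finrank_bot, add_zero, finrank_span_singleton] at this
    · exact this
    · rintro rfl; exact hv (zero_mem _)
  omega

theorem tmap_surjective {R' : Type u} [CommRing R'] [Algebra k R'] (π : R →ₐ[k] R')
    (hπ : Function.Surjective π) :
    Function.Surjective (Algebra.TensorProduct.map (AlgHom.id K K) π : K ⊗[k] R →ₐ[K] K ⊗[k] R') := by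
  intro y
  induction y using TensorProduct.induction_on with
  | zero => exact ⟨0, map_zero _⟩
  | tmul a r =>
    obtain ⟨r, rfl⟩ := hπ r
    exact ⟨a ⊗ₜ[k] r, Algebra.TensorProduct.map_tmul _ _ _ _⟩
  | add y y' hy hy' =>
    obtain ⟨x, rfl⟩ := hy
    obtain ⟨x', rfl⟩ := hy'
    exact ⟨x + x', map_add _ _ _⟩

end step

/-- An invariant constant on pencils is constant. -/
theorem IsInv.const [IsAlgClosed k] : ∀ (d : ℕ) (R : Type u) [CommRing R] [IsLocalRing R] [Algebra k R]
    [Module.Finite k R], Module.finrank k R = d → ∀ (n : ℕ)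
    (c : ∀ (K : Type u) [Field K] [Algebra k K], Ideal (K ⊗[k] R) → α), IsInv R n c →
    ∀ (K : Type u) [Field K] [Algebra k K] (J : Ideal (K ⊗[k] R))
      (K' : Type u) [Field K'] [Algebra k K'] (J' : Ideal (K' ⊗[k] R)),
      colen J = n → colen J' = n → c K J = c K' J' := by
  intro d
  induction d using Nat.strong_induction_on with
  | _ d ih =>
  intro R _ _ _ _ hd n c hc K _ _ J K' _ _ J' hJ hJ'
  have hres : ∀ r : R, ∃ a : k, r - algebraMap k R a ∈ IsLocalRing.maximalIdeal R := by
    intro r
    haveI : Algebra.IsIntegral k (IsLocalRing.ResidueField R) :=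
      Algebra.IsIntegral.of_finite k (IsLocalRing.ResidueField R)
    obtain ⟨a, ha⟩ := (IsAlgClosed.algebraMap_bijective_of_isIntegral (k := k)
      (K := IsLocalRing.ResidueField R)).2 (IsLocalRing.residue R r)
    refine ⟨a, ?_⟩
    rw [← IsLocalRing.residue_eq_zero_iff, map_sub, sub_eq_zero, ← ha]
    exact IsScalarTower.algebraMap_apply k R (IsLocalRing.ResidueField R) a
  by_cases hn0 : n = 0
  · have key : ∀ (L : Type u) [Field L] [Algebra k L] (M : Ideal (L ⊗[k] R)), colen M = n →
        c L M = c k (extIdeal k k (⊤ : Ideal R)) := by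
      intro L _ _ M hM
      have hM' : M = extIdeal k L (⊤ : Ideal R) := by
        rw [extIdeal, Ideal.map_top]
        exact eq_top_of_colen_eq_zero M (hM.trans hn0)
      rw [hM']
      exact hc.bc L ⊤ (hM' ▸ hM)
    rw [key K J hJ, key K' J' hJ']
  by_cases hnd : d ≤ n
  · have key : ∀ (L : Type u) [Field L] [Algebra k L] (M : Ideal (L ⊗[k] R)), colen M = n →
        c L M = c k (extIdeal k k (⊥ : Ideal R)) := by
      intro L _ _ M hM
      have hM' : M = extIdeal k L (⊥ : Ideal R) := by
        rw [extIdeal, Ideal.map_bot]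
        exact eq_bot_of_le M (by omega)
      rw [hM']
      exact hc.bc L ⊥ (hM' ▸ hM)
    rw [key K J hJ, key K' J' hJ']
  -- a socle element
  obtain ⟨z, hz0, hzm, hzk⟩ : ∃ z : R, z ≠ 0 ∧ z ∈ IsLocalRing.maximalIdeal R ∧
      ∀ m ∈ IsLocalRing.maximalIdeal R, m * z = 0 := by
    haveI : IsArtinianRing R := IsArtinianRing.of_finite k R
    obtain ⟨e, he⟩ := ((IsLocalRing.jacobson_eq_maximalIdeal (⊥ : Ideal R) bot_ne_top).symm ▸
      IsArtinianRing.isNilpotent_jacobson_bot : IsNilpotent (IsLocalRing.maximalIdeal R))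
    have hm0 : IsLocalRing.maximalIdeal R ≠ ⊥ := by
      intro h
      have hsurj : Function.Surjective (Algebra.linearMap k R) := fun r => by
        obtain ⟨a, ha⟩ := hres r
        rw [h, Ideal.mem_bot, sub_eq_zero] at ha
        exact ⟨a, ha.symm⟩
      have := LinearMap.finrank_le_finrank_of_injective (f := Algebra.linearMap k R) (algebraMap k R).injective
      have h' := (LinearEquiv.ofBijective (Algebra.linearMap k R)
        ⟨(algebraMap k R).injective, hsurj⟩).finrank_eq
      rw [Module.finrank_self, hd] at h'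
      omega
    classical
    let i := Nat.find (⟨e, he⟩ : ∃ e, IsLocalRing.maximalIdeal R ^ e = ⊥)
    have hi : IsLocalRing.maximalIdeal R ^ i = ⊥ := Nat.find_spec (⟨e, he⟩ : ∃ e, IsLocalRing.maximalIdeal R ^ e = ⊥)
    have h2i : 2 ≤ i := by
      by_contra h
      rcases (by omega : i = 0 ∨ i = 1) with h' | h' <;> rw [h'] at hi
      · rw [pow_zero, Ideal.one_eq_top] at hi; exact top_ne_bot hi
      · rw [pow_one] at hi; exact hm0 hi
    obtain ⟨z, hz, hz0⟩ := Submodule.exists_mem_ne_zero_of_ne_bot
      (Nat.find_min (⟨e, he⟩ : ∃ e, IsLocalRing.maximalIdeal R ^ e = ⊥) (by omega : i - 1 < i))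
    refine ⟨z, hz0, Ideal.pow_le_self (by omega) hz, fun m hm => ?_⟩
    have := Ideal.mul_mem_mul hm hz
    rwa [← pow_succ', show i - 1 + 1 = i by omega, hi, Ideal.mem_bot] at this
  -- move to ideals containing the socle element
  have move : ∀ (L : Type u) [Field L] [Algebra k L] (M : Ideal (L ⊗[k] R)), colen M = n →
      ∃ M' : Ideal (L ⊗[k] R), (1 : L) ⊗ₜ[k] z ∈ M' ∧ colen M' = n ∧ c L M = c L M' := by
    intro L _ _ M hM
    by_cases hzM : (1 : L) ⊗ₜ[k] z ∈ M
    · exact ⟨M, hzM, hM, rfl⟩
    obtain ⟨N, u, hNM, huM, huN, hN, hNm⟩ := exists_hyperplane (J := M) (fun h => by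
      have h1 := colen_add M
      have h2 : Module.finrank L (M.restrictScalars L) = 0 := by
        rw [h, Submodule.restrictScalars_bot, finrank_bot]
      omega) hres
    obtain ⟨p, hp⟩ : ∃ p, n = p + 1 := ⟨n - 1, by omega⟩
    have hzN : ∀ m ∈ IsLocalRing.maximalIdeal R, ((1 : L) ⊗ₜ[k] m) * ((1 : L) ⊗ₜ[k] z) ∈ N :=
      fun m hm => by rw [Algebra.TensorProduct.tmul_mul_tmul, one_mul, hzk m hm, TensorProduct.tmul_zero]; exact zero_mem _
    have hu : N ⊔ Ideal.span {u} = M := by
      refine le_antisymm (sup_le hNM ((Ideal.span_singleton_le_iff_mem _).mpr huM)) ?_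
      have h1 := colen_sup hres N u huN (fun m hm => hNm m hm u huM)
      have h2 := colen_add (N ⊔ Ideal.span {u})
      have h3 := colen_add M
      have hle : (N ⊔ Ideal.span {u}).restrictScalars L ≤ M.restrictScalars L :=
        fun y hy => sup_le hNM ((Ideal.span_singleton_le_iff_mem _).mpr huM) hy
      have := Submodule.eq_of_le_of_finrank_eq hle (by omega)
      exact fun y hy => (this.symm ▸ hy : y ∈ (N ⊔ Ideal.span {u}).restrictScalars L)
    refine ⟨N ⊔ Ideal.span {(1 : L) ⊗ₜ[k] z}, Submodule.mem_sup_right (Ideal.mem_span_singleton_self _),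
      ?_, ?_⟩
    · have := colen_sup hres N _ (fun h => hzM (hNM h)) hzN
      omega
    · rw [← hc.pencil L p N u _ hp (by omega) (fun m hm => hNm m hm u huM) hzN ?_, hu]
      intro a b hab
      have hb : b = 0 := by
        by_contra hb
        refine hzM ?_
        have h1 : b • ((1 : L) ⊗ₜ[k] z) ∈ M := by
          have := sub_mem (hNM hab) (M.smul_of_tower_mem a huM)
          rwa [add_sub_cancel_left] at this
        have h5 := Submodule.smul_mem (M.restrictScalars L) b⁻¹ h1
        rwa [inv_smul_smul₀ hb] at h5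
      subst hb
      rw [zero_smul, add_zero] at hab
      refine ⟨?_, rfl⟩
      by_contra ha
      refine huN ?_
      have h5 := Submodule.smul_mem (N.restrictScalars L) a⁻¹ hab
      rwa [inv_smul_smul₀ ha] at h5
  -- pass to the quotient
  let R' := R ⧸ Ideal.span {z}
  haveI : Nontrivial R' := Ideal.Quotient.nontrivial_iff.mpr fun h => by
    rw [Ideal.span_singleton_eq_top] at h
    exact (IsLocalRing.mem_maximalIdeal z).mp hzm h
  haveI : IsLocalRing R' := .of_surjective' _ Ideal.Quotient.mk_surjective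
  let π : R →ₐ[k] R' := Ideal.Quotient.mkₐ k _
  have hπ : Function.Surjective π := Ideal.Quotient.mk_surjective
  have hlt : Module.finrank k R' < d := by
    rw [← hd]
    have h1 := Submodule.finrank_quotient_add_finrank ((Ideal.span {z}).restrictScalars k)
    rw [(Submodule.Quotient.restrictScalarsEquiv k (Ideal.span {z})).finrank_eq] at h1
    have h2 : 0 < Module.finrank k ((Ideal.span {z}).restrictScalars k) := by
      rw [pos_iff_ne_zero, Ne, Submodule.finrank_eq_zero]
      intro h
      exact hz0 ((Ideal.span_singleton_eq_bot).mp ((Submodule.restrictScalars_eq_bot_iff _ _ _).mp h))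
    show Module.finrank k (R ⧸ Ideal.span {z}) < Module.finrank k R
    omega
  let πK : ∀ (L : Type u) [Field L] [Algebra k L], L ⊗[k] R →ₐ[L] L ⊗[k] R' := fun L _ _ =>
    Algebra.TensorProduct.map (AlgHom.id L L) π
  have hπK : ∀ (L : Type u) [Field L] [Algebra k L], Function.Surjective (πK L) := fun L _ _ =>
    tmap_surjective π hπ
  have hker : ∀ (L : Type u) [Field L] [Algebra k L],
      RingHom.ker (πK L) = Ideal.span {(1 : L) ⊗ₜ[k] z} := by
    intro L _ _
    refine (Algebra.TensorProduct.lTensor_ker (A := L) π hπ).trans ?_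
    rw [show RingHom.ker π = Ideal.span {z} from Ideal.mk_ker, Ideal.map_span, Set.image_singleton]
    rfl
  have hcm : ∀ (L : Type u) [Field L] [Algebra k L] (M : Ideal (L ⊗[k] R)),
      (1 : L) ⊗ₜ[k] z ∈ M → Ideal.comap (πK L) (Ideal.map (πK L) M) = M := by
    intro L _ _ M hzM
    rw [Ideal.comap_map_of_surjective' _ (hπK L), hker, sup_eq_left,
      Ideal.span_singleton_le_iff_mem]
    exact hzM
  have hcolen : ∀ (L : Type u) [Field L] [Algebra k L] (M : Ideal (L ⊗[k] R')),
      colen (Ideal.comap (πK L) M) = colen M := by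
    intro L _ _ M
    let g : (L ⊗[k] R) →ₐ[L] (L ⊗[k] R') ⧸ M := (Ideal.Quotient.mkₐ L M).comp (πK L)
    have hg : Function.Surjective g := Ideal.Quotient.mk_surjective.comp (hπK L)
    have hkg : RingHom.ker g = Ideal.comap (πK L) M := by
      ext x
      exact Ideal.Quotient.eq_zero_iff_mem
    rw [colen, colen, ← hkg]
    exact (Ideal.quotientKerAlgEquivOfSurjective hg).toLinearEquiv.finrank_eq
  let c' : ∀ (L : Type u) [Field L] [Algebra k L], Ideal (L ⊗[k] R') → α := fun L _ _ M =>
    c L (Ideal.comap (πK L) M)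
  have hc' : IsInv R' n c' := by
    constructor
    · intro L _ _ p N u v hp hN hu hv hind
      obtain ⟨u₀, rfl⟩ := hπK L u
      obtain ⟨v₀, rfl⟩ := hπK L v
      have hzN : (1 : L) ⊗ₜ[k] z ∈ Ideal.comap (πK L) N := by
        have h1 : (1 : L) ⊗ₜ[k] z ∈ RingHom.ker (πK L) :=
          (hker L).symm ▸ Ideal.mem_span_singleton_self _
        rw [Ideal.mem_comap, RingHom.mem_ker.mp h1]
        exact zero_mem _
      have hsup : ∀ w : L ⊗[k] R, Ideal.comap (πK L) (N ⊔ Ideal.span {πK L w}) =
          Ideal.comap (πK L) N ⊔ Ideal.span {w} := by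
        intro w
        rw [← hcm L (_ ⊔ Ideal.span {w}) (Submodule.mem_sup_left hzN), Ideal.map_sup,
          Ideal.map_comap_of_surjective _ (hπK L), Ideal.map_span, Set.image_singleton]
      have hmul : ∀ (m : R) (w : L ⊗[k] R), m ∈ IsLocalRing.maximalIdeal R →
          (∀ m' ∈ IsLocalRing.maximalIdeal R', ((1 : L) ⊗ₜ[k] m') * πK L w ∈ N) →
          ((1 : L) ⊗ₜ[k] m) * w ∈ Ideal.comap (πK L) N := by
        intro m w hm h
        rw [Ideal.mem_comap, map_mul]
        refine h (π m) ?_
        rw [IsLocalRing.mem_maximalIdeal]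
        intro hu'
        obtain ⟨y, hy⟩ := hu'.exists_right_inv
        obtain ⟨y, rfl⟩ := hπ y
        rw [← map_mul, ← map_one π] at hy
        have hmem : m * y - 1 ∈ IsLocalRing.maximalIdeal R := by
          refine (Ideal.span_singleton_le_iff_mem _).mpr hzm ?_
          exact Ideal.Quotient.eq.mp hy
        have := sub_mem (Ideal.mul_mem_right y _ hm) hmem
        rw [sub_sub_cancel] at this
        exact (IsLocalRing.maximalIdeal.isMaximal R).ne_top ((Ideal.eq_top_iff_one _).mpr this)
      show c L _ = c L _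
      rw [hsup, hsup]
      exact hc.pencil L p _ u₀ v₀ hp ((hcolen L N).trans hN) (fun m hm => hmul m u₀ hm hu)
        (fun m hm => hmul m v₀ hm hv) fun a b hab => hind a b (by
          have h1 : πK L (a • u₀ + b • v₀) ∈ N := hab
          rwa [map_add, map_smul, map_smul] at h1)
    · intro L _ _ I hI
      have hext : ∀ (L : Type u) [Field L] [Algebra k L],
          Ideal.comap (πK L) (extIdeal k L I) = extIdeal k L (I.comap π) := by
        intro L _ _
        have h1 : extIdeal k L I = Ideal.map (πK L) (extIdeal k L (I.comap π)) := by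
          conv_lhs => rw [extIdeal, ← Ideal.map_comap_of_surjective π hπ I]
          refine (Ideal.map_map (π : R →+* R') _).trans ?_
          refine Eq.trans ?_ (Ideal.map_map _ _).symm
          refine congrArg (fun φ : R →+* L ⊗[k] R' => Ideal.map φ (I.comap π)) ?_
          ext r
          show (1 : L) ⊗ₜ[k] π r = πK L ((1 : L) ⊗ₜ[k] r)
          rfl
        rw [h1]
        refine hcm L _ (Ideal.mem_map_of_mem _ ?_)
        rw [Ideal.mem_comap, show π z = 0 from Ideal.Quotient.eq_zero_iff_mem.mpr (Ideal.mem_span_singleton_self z)]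
        exact zero_mem _
      show c L _ = c k _
      rw [hext, hext]
      exact hc.bc L _ (by rw [← hext, hcolen]; exact hI)
  obtain ⟨M, hzM, hM, e⟩ := move K J hJ
  obtain ⟨M', hzM', hM', e'⟩ := move K' J' hJ'
  rw [e, e', ← hcm K M hzM, ← hcm K' M' hzM']
  exact ih _ hlt R' rfl n c' hc' K _ K' _ (by rw [← hcolen, hcm K M hzM, hM])
    (by rw [← hcolen, hcm K' M' hzM', hM'])

end Groth.Agent.H27Punctual
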