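/-
The punctual Hilbert scheme is preconnected.
-/
import Groth.Agent.H27Punctual.Invariant
import Groth.Agent.H27HilbAff.Chart
import Mathlib.Topology.Connected.Clopen

set_option autoImplicit false
set_option maxHeartbeats 800000
set_option backward.isDefEq.respectTransparency false
set_option backward.isDefEq.respectTransparency.types false

universe u

open CategoryTheory CategoryTheory.Limits AlgebraicGeometry Opposite CommRingCat
open TensorProduct Polynomial
open HilbD

namespace Groth.Agent.H27Punctual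

open H27HilbAff
open H27HilbOps (pullObj)

variable {k R : Type u} [Field k] [CommRing R] [Algebra k R]

theorem finrank_quotient_extIdeal (K : Type u) [Field K] [Algebra k K] (I : Ideal R) :
    colen (extIdeal k K I) = Module.finrank k (R ⧸ I) := by
  let π : R →ₐ[k] R ⧸ I := Ideal.Quotient.mkₐ k I
  let g : K ⊗[k] R →ₐ[K] K ⊗[k] (R ⧸ I) := Algebra.TensorProduct.map (AlgHom.id K K) π
  have hg : Function.Surjective g := fun y => by
    induction y using TensorProduct.induction_on with
    | zero => exact ⟨0, map_zero _⟩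
    | tmul a r =>
      obtain ⟨r, rfl⟩ := Ideal.Quotient.mk_surjective r
      exact ⟨a ⊗ₜ[k] r, Algebra.TensorProduct.map_tmul _ _ _ _⟩
    | add y y' hy hy' =>
      obtain ⟨x, rfl⟩ := hy
      obtain ⟨x', rfl⟩ := hy'
      exact ⟨x + x', map_add _ _ _⟩
  have hker : RingHom.ker g = extIdeal k K I := by
    refine (Algebra.TensorProduct.lTensor_ker (A := K) π Ideal.Quotient.mk_surjective).trans ?_
    rw [show RingHom.ker π = I from Ideal.mk_ker]
  rw [colen, ← hker, (Ideal.quotientKerAlgEquivOfSurjective hg).toLinearEquiv.finrank_eq,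
    Module.finrank_baseChange]

variable [IsAlgClosed k] [IsLocalRing R] [Module.Finite k R]

local notation "σ₀" => 𝟙 (Spec (CommRingCat.of k))

theorem preconnectedSpace {n : ℕ} {f : Spec (CommRingCat.of R) ⟶ Spec (CommRingCat.of k)}
    (hf : fB (B := R) (𝟙 (Spec (CommRingCat.of k))) = f) (H : Over (Spec (CommRingCat.of k)))
    (Z : HilbD.Obj f n H) (hH : HilbD.IsUniversal f n H Z) : PreconnectedSpace H.left := by
  subst hf
  classical
  let c : ∀ (K : Type u) [Field K] [Algebra k K], Ideal (K ⊗[k] R) →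
      Option (_root_.ConnectedComponents H.left) := fun K _ _ J =>
    if h : ∃ a : TA σ₀ K ⟶ H, HilbD.pull (fB σ₀) a Z.1 = famOf σ₀ J then
      some (_root_.ConnectedComponents.mk (h.choose.left (IsLocalRing.closedPoint K))) else none
  have hc : ∀ (K : Type u) [Field K] [Algebra k K] (J : Ideal (K ⊗[k] R)) (a : TA σ₀ K ⟶ H),
      HilbD.pull (fB σ₀) a Z.1 = famOf σ₀ J → ∀ y : Spec (CommRingCat.of K),
      c K J = some (_root_.ConnectedComponents.mk (a.left y)) := by
    intro K _ _ J a ha y
    have h : ∃ a : TA σ₀ K ⟶ H, HilbD.pull (fB σ₀) a Z.1 = famOf σ₀ J := ⟨a, ha⟩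
    have e : h.choose = a := (hH (TA σ₀ K) ⟨famOf σ₀ J, ha ▸ (pullObj (fB σ₀) a Z).2⟩).unique
      h.choose_spec ha
    simp only [c, dif_pos h, e]
    rw [show y = IsLocalRing.closedPoint K from @Subsingleton.elim (PrimeSpectrum K) inferInstance _ _]
  have hex : ∀ (K : Type u) [Field K] [Algebra k K] (J : Ideal (K ⊗[k] R)), colen J = n →
      ∃ a : TA σ₀ K ⟶ H, HilbD.pull (fB σ₀) a Z.1 = famOf σ₀ J := by
    intro K _ _ J hJ
    haveI : Algebra.FinitePresentation K ((K ⊗[k] R) ⧸ J) :=
      Algebra.FinitePresentation.of_finiteType.mp inferInstance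
    exact (hH (TA σ₀ K) ⟨famOf σ₀ J, (famOf_proj_iff σ₀ n J).mpr
      ⟨inferInstance, inferInstance, inferInstance, fun p => by
        rw [Module.rankAtStalk_eq_finrank_of_free]; exact hJ⟩⟩).exists
  have hinv : IsInv (k := k) R n c := by
    constructor
    · intro K _ _ p N u v hp hN hu hv hind
      obtain ⟨𝒦, φ, hφ, hev⟩ := exists_pencil
        (fun r => exists_residue r) N hN u v hu hv hind
      subst hp
      obtain ⟨g, hg, -⟩ := hH (TA σ₀ K[X])
        ⟨famOf σ₀ 𝒦, isFinLocFreeOfDeg_famOf σ₀ hφ⟩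
      have key : ∀ (ev : K[X] →ₐ[K] K), c K (N ⊔ Ideal.span {u + ev X • (v - u)}) =
          some (_root_.ConnectedComponents.mk
            ((TAmap σ₀ (ev.restrictScalars k) ≫ g).left (IsLocalRing.closedPoint K))) := fun ev => by
        refine hc K _ _ ?_ _
        rw [H27HilbOps.pull_comp, hg, pull_famOf, hev]
      have h0 := key (aeval 0)
      have h1 := key (aeval 1)
      rw [aeval_X, zero_smul, add_zero] at h0
      rw [aeval_X, one_smul, add_sub_cancel] at h1
      rw [h0, h1]
      refine congrArg some (_root_.ConnectedComponents.coe_eq_coe'.mpr ?_)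
      haveI : PreconnectedSpace (TA σ₀ K[X]).left := inferInstanceAs (PreconnectedSpace (PrimeSpectrum K[X]))
      exact (isPreconnected_range g.left.continuous).subset_connectedComponent ⟨_, rfl⟩ ⟨_, rfl⟩
    · intro K _ _ I hI
      have hI' : colen (extIdeal k k I) = n := by
        rw [finrank_quotient_extIdeal] at hI ⊢
        exact hI
      obtain ⟨a, ha⟩ := hex k _ hI'
      rw [hc k _ a ha (Spec.map (ofHom (Algebra.ofId k K).toRingHom) (IsLocalRing.closedPoint K)),
        hc K _ (TAmap σ₀ (Algebra.ofId k K) ≫ a) ?_ (IsLocalRing.closedPoint K)]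
      · rfl
      · rw [H27HilbOps.pull_comp, ha, pull_famOf]
        refine congrArg (famOf σ₀) ?_
        refine (Ideal.map_map _ _).trans ?_
        refine congrArg (fun φ : R →+* K ⊗[k] R => Ideal.map φ I) ?_
        ext r
        show bc (Algebra.ofId k K) ((1 : k) ⊗ₜ[k] r) = (1 : K) ⊗ₜ[k] r
        simp
  have hall : ∀ x : H.left, ∀ (K : Type u) [Field K] [Algebra k K] (a : TA σ₀ K ⟶ H),
      x ∈ Set.range a.left → ∃ J : Ideal (K ⊗[k] R), colen J = n ∧
        c K J = some (_root_.ConnectedComponents.mk x) := by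
    rintro x K _ _ a ⟨y, rfl⟩
    obtain ⟨J, hJ⟩ := exists_famOf σ₀ (HilbD.pull (fB σ₀) a Z.1)
    obtain ⟨f1, f2, f3, f4⟩ := (famOf_proj_iff σ₀ n J).mp (by rw [hJ]; exact (pullObj (fB σ₀) a Z).2)
    refine ⟨J, ?_, hc K J a hJ.symm y⟩
    rw [← f4 (IsLocalRing.closedPoint K), Module.rankAtStalk_eq_finrank_of_free]
    rfl
  rw [preconnectedSpace_iff_connectedComponent]
  intro x
  refine Set.eq_univ_of_forall fun x' => ?_
  obtain ⟨K, _, _, a, ha⟩ := exists_field_point σ₀ x
  obtain ⟨K', _, _, a', ha'⟩ := exists_field_point σ₀ x'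
  obtain ⟨J, hJ, e⟩ := hall x K a ha
  obtain ⟨J', hJ', e'⟩ := hall x' K' a' ha'
  have := hinv.const _ R rfl n c K J K' J' hJ hJ'
  rw [e, e', Option.some.injEq] at this
  exact _root_.ConnectedComponents.coe_eq_coe'.mp this.symm
where
  exists_residue (r : R) : ∃ a : k, r - algebraMap k R a ∈ IsLocalRing.maximalIdeal R := by
    haveI : Algebra.IsIntegral k (IsLocalRing.ResidueField R) :=
      Algebra.IsIntegral.of_finite k (IsLocalRing.ResidueField R)
    obtain ⟨a, ha⟩ := (IsAlgClosed.algebraMap_bijective_of_isIntegral (k := k)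
      (K := IsLocalRing.ResidueField R)).2 (IsLocalRing.residue R r)
    refine ⟨a, ?_⟩
    rw [← IsLocalRing.residue_eq_zero_iff, map_sub, sub_eq_zero, ← ha]
    exact IsScalarTower.algebraMap_apply k R (IsLocalRing.ResidueField R) a

end Groth.Agent.H27Punctual
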